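import Cfsg.Agent.H883.C7.GIface
import Cfsg.Agent.H734.C7.OpA

/-!
# The sum formula for Siegel elements in one slot (task 2079, plan of helper883)
-/

set_option autoImplicit false
set_option linter.unusedSectionVars false

namespace Cfsg.Agent.H763.C7

open QuadraticMap hiding proj
open Cfsg.Agent.LieClassical.OrthCore Cfsg.Agent.LieClassical.OrthTrans
open Cfsg.Agent.H882.Ten Cfsg.Agent.LieClassical.OrthFinite
open Cfsg.Agent.H883.C7 Cfsg.Agent.H734.C7

section vec

variable {F : Type*} [Field F] {V : Type*} [AddCommGroup V] [Module F V] {Q : QuadraticForm F V}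

/-- one more orthogonal nonsingular vector -/
theorem exists_next (h2 : (2 : F) ≠ 0) (hQ : Nondeg Q) {u u' : V} (hyp : Hyp Q u u') {r : ℕ} (x : Fin r → V)
    (hx : ∀ i, polar Q u (x i) = 0) (hx' : ∀ i, polar Q u' (x i) = 0) (hq : ∀ i, Q (x i) ≠ 0)
    (hxx : ∀ i j, i ≠ j → polar Q (x i) (x j) = 0) (hr : r + 2 < Module.finrank F V) :
    ∃ y, polar Q u y = 0 ∧ polar Q u' y = 0 ∧ (∀ i, polar Q (x i) y = 0) ∧ Q y ≠ 0 := by
  obtain ⟨a, ha0, ha⟩ := exists_perp_ne (Q := Q) (Fin.cons u (Fin.cons u' x) : Fin (r + 2) → V) hr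
  have ha1 : polar Q u a = 0 := ha 0
  have ha2 : polar Q u' a = 0 := ha 1
  have ha3 : ∀ i, polar Q (x i) a = 0 := fun i => ha i.succ.succ
  obtain ⟨c, hc⟩ := hQ.exists_polar_eq ha0 1
  let s : V := ∑ i, (polar Q (x i) c / (2 * Q (x i))) • x i
  let d : V := c - polar Q u' c • u - polar Q u c • u' - s
  have hs : ∀ v, polar Q v s = ∑ i, (polar Q (x i) c / (2 * Q (x i))) * polar Q v (x i) := by
    intro v
    have : polarBilin Q v s = _ := map_sum (polarBilin Q v) _ _
    rw [polarBilin_apply_apply] at this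
    rw [this]
    exact Finset.sum_congr rfl fun i _ => by rw [map_smul, polarBilin_apply_apply, smul_eq_mul]
  have hd : ∀ v, polar Q v d = polar Q v c - polar Q u' c * polar Q v u - polar Q u c * polar Q v u' -
      ∑ i, (polar Q (x i) c / (2 * Q (x i))) * polar Q v (x i) := by
    intro v
    rw [← hs]
    simp only [d, polar_sub_right, polar_smul_right, smul_eq_mul]
  have e1 : polar Q u u = 0 := polar_self_of_sing hyp.left
  have e2 : polar Q u' u' = 0 := polar_self_of_sing hyp.right
  have e3 : polar Q u' u = 1 := by rw [polar_comm]; exact hyp.pair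
  have hd1 : polar Q u d = 0 := by
    rw [hd, Finset.sum_eq_zero fun i _ => by rw [hx, mul_zero], e1, hyp.pair]
    ring
  have hd2 : polar Q u' d = 0 := by
    rw [hd, Finset.sum_eq_zero fun i _ => by rw [hx', mul_zero], e2, e3]
    ring
  have hd3 : ∀ j, polar Q (x j) d = 0 := by
    intro j
    rw [hd, Finset.sum_eq_single j, polar_comm Q (x j) u, polar_comm Q (x j) u', hx, hx', polar_self' (x j),
      div_mul_cancel₀ _ (mul_ne_zero h2 (hq j))]
    · ring
    · intro i _ hi
      rw [hxx j i hi.symm, mul_zero]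
    · intro h
      exact absurd (Finset.mem_univ j) h
  have hd4 : polar Q a d = 1 := by
    rw [hd, hc, polar_comm Q a u, polar_comm Q a u', ha1, ha2, Finset.sum_eq_zero fun i _ => by
      rw [polar_comm Q a (x i), ha3, mul_zero]]
    ring
  rcases exists_nonsing hd4 with h | h | h
  · exact ⟨a, ha1, ha2, ha3, h⟩
  · exact ⟨d, hd1, hd2, hd3, h⟩
  · exact ⟨a + d, by rw [polar_add_right, ha1, hd1, add_zero], by rw [polar_add_right, ha2, hd2, add_zero],
      fun i => by rw [polar_add_right, ha3, hd3, add_zero], h⟩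

end vec

section sums

variable {F : Type*} [Field F] [Fintype F] {M : Type*} [Ring M] [Algebra F M]

/-- sums of polynomial functions of degree `4` -/
theorem sum_poly (C0 C1 C2 C3 C4 : M) :
    ∑ a : F, (C0 + a • C1 + (a ^ 2) • C2 + (a ^ 3) • C3 + (a ^ 4) • C4) =
      (∑ a : F, a ^ 0) • C0 + (∑ a : F, a ^ 1) • C1 + (∑ a : F, a ^ 2) • C2 + (∑ a : F, a ^ 3) • C3 +
        (∑ a : F, a ^ 4) • C4 := by
  simp only [Finset.sum_add_distrib, Finset.sum_smul, pow_zero, one_smul, pow_one]

end sums

section expand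

variable {F : Type*} [Field F] {A : Type*} [Ring A] [Algebra F A]

theorem expand_one (w T n : A) (a c : F) :
    (1 + a • n - (a ^ 2 * c) • w) * T * (1 - a • n - (a ^ 2 * c) • w) =
      T + a • (n * T - T * n) + a ^ 2 • (-(c • (w * T + T * w)) - n * T * n) +
        a ^ 3 • (c • (w * T * n - n * T * w)) + a ^ 4 • ((c * c) • (w * T * w)) := by
  simp only [add_mul, sub_mul, mul_sub, one_mul, mul_one, smul_mul_assoc, mul_smul_comm, mul_assoc]
  module

/-- the expansion in `b` -/
theorem expand_two (w T n m : A) (a b c d : F) :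
    (1 + (a • n + b • m) - (a ^ 2 * c + b ^ 2 * d) • w) * T * (1 - (a • n + b • m) - (a ^ 2 * c + b ^ 2 * d) • w) =
      (1 + a • n - (a ^ 2 * c) • w) * T * (1 - a • n - (a ^ 2 * c) • w) +
        b • (m * T * (1 - a • n - (a ^ 2 * c) • w) - (1 + a • n - (a ^ 2 * c) • w) * T * m) +
        b ^ 2 • ((-(d • (w * T + T * w)) - m * T * m) + a • (d • (w * T * n - n * T * w)) +
          (a ^ 2) • ((2 * c * d) • (w * T * w)) + (a ^ 3) • (0 : A) + (a ^ 4) • (0 : A)) +
        b ^ 3 • (d • (w * T * m - m * T * w)) + b ^ 4 • ((d * d) • (w * T * w)) := by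
  simp only [add_mul, mul_add, sub_mul, mul_sub, one_mul, mul_one, smul_mul_assoc, mul_smul_comm, mul_assoc]
  module

end expand

section main

variable {F : Type*} [Field F] {κ : Type*} [Fintype κ] [DecidableEq κ]

theorem finsum_Y {I V M : Type*} [AddGroup V] [AddCommMonoid M] [Fintype I] (Y : AddSubgroup V) (e : I ≃ Y)
    (g : Y → M) : ∑ᶠ y, g y = ∑ a, g (e a) := by
  rw [← finsum_comp_equiv e, finsum_eq_sum_of_fintype]

/-- two orthogonal vectors of equal norm, field of order three -/
theorem exists_pair [Fintype F] {q : QuadraticForm F (κ → F)} (H : Hyp7 q) {w : κ → F} (hw : q w = 0) (hw0 : w ≠ 0)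
    (h3 : Fintype.card F = 3) :
    ∃ y z, polar q w y = 0 ∧ polar q w z = 0 ∧ polar q y z = 0 ∧ q y ≠ 0 ∧ q z = q y := by
  have hsq : ∀ a : F, a ≠ 0 → a * a = 1 := by
    intro a ha
    have := FiniteField.pow_card_sub_one_eq_one a ha
    rw [h3] at this
    rw [← this]; ring
  have hpm : ∀ a b : F, a ≠ 0 → b ≠ 0 → b = a ∨ b = -a := by
    intro a b ha hb
    have h : (b - a) * (b + a) = 0 := by linear_combination hsq b hb - hsq a ha
    rcases mul_eq_zero.1 h with h | h
    · exact Or.inl (sub_eq_zero.1 h)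
    · exact Or.inr (eq_neg_of_add_eq_zero_left h)
  have hκ : 4 ≤ Fintype.card κ := by
    have h4 := H.three
    by_contra hcon
    have := H.five (by omega)
    rw [Nat.card_eq_fintype_card, h3] at this
    omega
  have hfr : Module.finrank F (κ → F) = Fintype.card κ := Module.finrank_fintype_fun_eq_card F
  obtain ⟨w', hyp⟩ := LieClassical.OrthTrans.exists_hyp H.nd hw hw0
  obtain ⟨y, hy1, hy2, hy3⟩ := H882.Ten.exists_nonsing_perp H.nd (by omega) hyp
  obtain ⟨z, hz1, hz2, hz3, hz4⟩ := exists_next H.two H.nd hyp ![y] (fun i => by fin_cases i; exact hy1)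
    (fun i => by fin_cases i; exact hy2) (fun i => by fin_cases i; exact hy3)
    (fun i j hij => absurd (Subsingleton.elim i j) hij) (by omega)
  have hyz : polar q y z = 0 := hz3 0
  rcases hpm _ _ hy3 hz4 with h | h
  · exact ⟨y, z, hy1, hz1, hyz, hy3, h⟩
  by_cases h4 : Fintype.card κ = 4
  · exfalso
    have h5 : q (y + z) = 0 := by rw [Q_add, hyz, h]; ring
    obtain ⟨c, hc⟩ := H.four h4 w (y + z) hw0 hw h5 (by rw [polar_add_right, hy1, hz1, add_zero])
    have h6 : polar q w' (y + z) = 0 := by rw [polar_add_right, hy2, hz2, add_zero]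
    rw [hc, polar_smul_right, hyp.symm.pair, smul_eq_mul, mul_one] at h6
    have h7 : polar q y (y + z) = 2 * q y := by rw [polar_add_right, hyz, add_zero, polar_self']
    rw [hc, h6, zero_smul, polar_zero_right] at h7
    exact mul_ne_zero H.two hy3 h7.symm
  · obtain ⟨x, hx1, hx2, hx3, hx4⟩ := exists_next H.two H.nd hyp ![y, z]
      (fun i => by fin_cases i; exacts [hy1, hz1])
      (fun i => by fin_cases i; exacts [hy2, hz2]) (fun i => by fin_cases i; exacts [hy3, hz4])
      (fun i j hij => by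
        fin_cases i <;> fin_cases j
        · exact absurd rfl hij
        · exact hyz
        · exact (polar_comm q z y).trans hyz
        · exact absurd rfl hij) (by omega)
    rcases hpm _ _ hy3 hx4 with h5 | h5
    · exact ⟨y, x, hy1, hx1, hx3 0, hy3, h5⟩
    · exact ⟨z, x, hz1, hx1, hx3 1, hz4, by rw [h5, h]⟩

universe v

theorem exists_Y [Fintype F] {q : QuadraticForm F (κ → F)} (H : Hyp7 q) {w : κ → F} (hw : q w = 0) (hw0 : w ≠ 0) :
    ∃ (Y : AddSubgroup (κ → F)) (hY : ∀ y ∈ Y, polar q w y = 0) (c : F), (∀ y ∈ Y, y ≠ 0 → q y ≠ 0) ∧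
      (∃ y ∈ Y, y ≠ 0) ∧
      ∀ (ι' : Type v) [Fintype ι'] [DecidableEq ι'] (i : ι') (T : Module.End F ((ι' → κ) → F)),
        ∑ᶠ y : Y, cj (slE i (siegel q w y hw (hY y y.2))) T = c • (sl i (om q w) * T * sl i (om q w)) := by
  classical
  by_cases h5 : 5 ≤ Fintype.card F
  · obtain ⟨w', hyp⟩ := LieClassical.OrthTrans.exists_hyp H.nd hw hw0
    obtain ⟨y0, hy0, -, hqy⟩ := H882.Ten.exists_nonsing_perp H.nd
      (by rw [Module.finrank_fintype_fun_eq_card]; exact H.three) hyp
    have hy00 : y0 ≠ 0 := by rintro rfl; exact hqy (QuadraticMap.map_zero q)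
    let Y : AddSubgroup (κ → F) := (LinearMap.range (LinearMap.toSpanSingleton F (κ → F) y0)).toAddSubgroup
    have hmem : ∀ y ∈ Y, ∃ a : F, a • y0 = y := fun y hy => hy
    have hY : ∀ y ∈ Y, polar q w y = 0 := by
      intro y hy
      obtain ⟨a, rfl⟩ := hmem y hy
      rw [polar_smul_right, hy0, smul_zero]
    let e : F ≃ Y := Equiv.ofBijective (fun a => ⟨a • y0, ⟨a, rfl⟩⟩) ⟨fun a b hab => by
      have := congrArg Subtype.val hab
      exact smul_left_injective F hy00 this, fun y => by
      obtain ⟨a, ha⟩ := hmem y y.2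
      exact ⟨a, Subtype.ext ha⟩⟩
    refine ⟨Y, hY, (∑ a : F, a ^ 4) * (q y0 * q y0), ?_, ⟨y0, ⟨1, one_smul _ _⟩, hy00⟩, ?_⟩
    · intro y hy hne
      obtain ⟨a, rfl⟩ := hmem y hy
      have ha : a ≠ 0 := by rintro rfl; exact hne (zero_smul _ _)
      rw [QuadraticMap.map_smul, smul_eq_mul]
      exact mul_ne_zero (mul_ne_zero ha ha) hqy
    · intro ι' _ _ i T
      rw [finsum_Y Y e]
      have h1 : ∀ a : F, cj (slE i (siegel q w (e a) hw (hY (e a) (e a).2))) T =
          T + a • (sl i (nn q w y0) * T - T * sl i (nn q w y0)) +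
            a ^ 2 • (-(q y0 • (sl i (om q w) * T + T * sl i (om q w))) - sl i (nn q w y0) * T * sl i (nn q w y0)) +
            a ^ 3 • (q y0 • (sl i (om q w) * T * sl i (nn q w y0) - sl i (nn q w y0) * T * sl i (om q w))) +
            a ^ 4 • ((q y0 * q y0) • (sl i (om q w) * T * sl i (om q w))) := by
        intro a
        rw [cj_siegel, ← expand_one]
        have h2 : ((e a : Y) : κ → F) = a • y0 := rfl
        rw [h2, nn_smul, sl_smul, QuadraticMap.map_smul, smul_eq_mul, pow_two]
      refine (Finset.sum_congr rfl fun a _ => h1 a).trans ?_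
      refine (sum_poly _ _ _ _ _).trans ?_
      rw [FiniteField.sum_pow_lt_card_sub_one F 0 (by omega), FiniteField.sum_pow_lt_card_sub_one F 1 (by omega),
        FiniteField.sum_pow_lt_card_sub_one F 2 (by omega), FiniteField.sum_pow_lt_card_sub_one F 3 (by omega)]
      simp only [zero_smul, zero_add, smul_smul, zero_mul, add_zero]
  · have h3 : Fintype.card F = 3 := by
      obtain ⟨p, hp⟩ := CharP.exists F
      obtain ⟨n, hpp, hn⟩ := FiniteField.card F p
      have hp2 : p ≠ 2 := by
        rintro rfl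
        exact H.two (by exact_mod_cast CharP.cast_eq_zero F 2)
      have hp3 : 3 ≤ p := by have := hpp.two_le; omega
      have hpn : p ≤ Fintype.card F := by
        rw [hn]
        calc p = p ^ 1 := (pow_one p).symm
          _ ≤ p ^ (n : ℕ) := Nat.pow_le_pow_right (by omega) n.2
      have hp3' : p = 3 := by
        have : p ≠ 4 := by rintro rfl; exact absurd hpp (by norm_num)
        omega
      subst hp3'
      rcases Nat.lt_or_ge 1 (n : ℕ) with h | h
      · have : 3 ^ 2 ≤ Fintype.card F := by rw [hn]; exact Nat.pow_le_pow_right (by norm_num) h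
        omega
      · have : (n : ℕ) = 1 := le_antisymm h n.2
        rw [hn, this, pow_one]
    obtain ⟨y, z, hy, hz, hyz, hqy, hqz⟩ := exists_pair H hw hw0 h3
    have hqL : ∀ a b : F, q (a • y + b • z) = a ^ 2 * q y + b ^ 2 * q z := by
      intro a b
      rw [Q_add, QuadraticMap.map_smul, QuadraticMap.map_smul, polar_smul_left, polar_smul_right, hyz]
      simp only [smul_eq_mul]
      ring
    have hcube : ∀ a : F, a ^ 3 = a := by
      intro a
      have := FiniteField.pow_card a
      rwa [h3] at this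
    have hsq : ∀ a : F, a ≠ 0 → a ^ 2 = 1 := by
      intro a ha
      have := FiniteField.pow_card_sub_one_eq_one a ha
      rwa [h3] at this
    have hani : ∀ a b : F, q (a • y + b • z) = 0 → a = 0 ∧ b = 0 := by
      intro a b h
      rw [hqL, hqz, ← add_mul] at h
      have h4 := (mul_eq_zero.1 h).resolve_right hqy
      by_cases ha : a = 0
      · refine ⟨ha, ?_⟩
        rw [ha] at h4
        simpa using h4
      · exfalso
        rw [hsq a ha] at h4
        by_cases hb : b = 0
        · rw [hb] at h4; simp at h4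
        · rw [hsq b hb] at h4
          exact H.two (by rw [← h4]; norm_num)
    let L : F × F →ₗ[F] (κ → F) :=
      (LinearMap.toSpanSingleton F (κ → F) y).coprod (LinearMap.toSpanSingleton F (κ → F) z)
    have hL : ∀ a b : F, L (a, b) = a • y + b • z := fun a b => rfl
    let Y : AddSubgroup (κ → F) := (LinearMap.range L).toAddSubgroup
    have hmem : ∀ v ∈ Y, ∃ a : F × F, L a = v := fun v hv => hv
    have hY : ∀ v ∈ Y, polar q w v = 0 := by
      intro v hv
      obtain ⟨⟨a, b⟩, rfl⟩ := hmem v hv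
      rw [hL, polar_add_right, polar_smul_right, polar_smul_right, hy, hz, smul_zero, smul_zero, add_zero]
    have hLinj : Function.Injective L := by
      rw [← LinearMap.ker_eq_bot, LinearMap.ker_eq_bot']
      rintro ⟨a, b⟩ h
      have h4 := hani a b (by rw [← hL, h, QuadraticMap.map_zero])
      rw [h4.1, h4.2]
      rfl
    let e : F × F ≃ Y := Equiv.ofBijective (fun a => ⟨L a, ⟨a, rfl⟩⟩) ⟨fun a b hab => by
      have := congrArg Subtype.val hab
      exact hLinj this, fun v => by
      obtain ⟨a, ha⟩ := hmem v v.2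
      exact ⟨a, Subtype.ext ha⟩⟩
    have hy00 : y ≠ 0 := by rintro rfl; exact hqy (QuadraticMap.map_zero q)
    refine ⟨Y, hY, (∑ a : F, a ^ 2) * ((∑ a : F, a ^ 2) * (2 * q y * q z)), ?_,
      ⟨y, ⟨(1, 0), by rw [hL]; simp⟩, hy00⟩, ?_⟩
    · intro v hv hne h
      obtain ⟨⟨a, b⟩, rfl⟩ := hmem v hv
      rw [hL] at h
      obtain ⟨rfl, rfl⟩ := hani a b h
      exact hne (by rw [hL]; simp)
    · intro ι' _ _ i T
      rw [finsum_Y Y e, Fintype.sum_prod_type]
      have s0 : ∑ a : F, a ^ 0 = 0 := FiniteField.sum_pow_lt_card_sub_one F 0 (by omega)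
      have s1 : ∑ a : F, a ^ 1 = 0 := FiniteField.sum_pow_lt_card_sub_one F 1 (by omega)
      have s3 : ∑ a : F, a ^ 3 = 0 := by
        rw [← s1]
        exact Finset.sum_congr rfl fun a _ => by rw [hcube, pow_one]
      set n := sl i (nn q w y) with hn
      set m := sl i (nn q w z) with hm
      set W := sl i (om q w) with hW
      have h1 : ∀ a b : F, cj (slE i (siegel q w (e (a, b)) hw (hY (e (a, b)) (e (a, b)).2))) T =
          (1 + a • n - (a ^ 2 * q y) • W) * T * (1 - a • n - (a ^ 2 * q y) • W) +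
          b • (m * T * (1 - a • n - (a ^ 2 * q y) • W) - (1 + a • n - (a ^ 2 * q y) • W) * T * m) +
          b ^ 2 • ((-(q z • (W * T + T * W)) - m * T * m) + a • (q z • (W * T * n - n * T * W)) +
            (a ^ 2) • ((2 * q y * q z) • (W * T * W)) + (a ^ 3) • (0 : Module.End F ((ι' → κ) → F)) +
            (a ^ 4) • (0 : Module.End F ((ι' → κ) → F))) +
          b ^ 3 • (q z • (W * T * m - m * T * W)) + b ^ 4 • ((q z * q z) • (W * T * W)) := by
        intro a b
        rw [cj_siegel, ← expand_two]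
        have h2 : ((e (a, b) : Y) : κ → F) = a • y + b • z := rfl
        rw [h2, nn_add, nn_smul, nn_smul, sl_add, sl_smul, sl_smul, hqL]
      have h2 : ∀ a : F, ∑ b : F, cj (slE i (siegel q w (e (a, b)) hw (hY (e (a, b)) (e (a, b)).2))) T =
          (∑ b : F, b ^ 2) • ((-(q z • (W * T + T * W)) - m * T * m) + a • (q z • (W * T * n - n * T * W)) +
            (a ^ 2) • ((2 * q y * q z) • (W * T * W)) + (a ^ 3) • (0 : Module.End F ((ι' → κ) → F)) +
            (a ^ 4) • (0 : Module.End F ((ι' → κ) → F))) +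
          (a ^ 0) • ((∑ b : F, b ^ 4) • ((q z * q z) • (W * T * W))) := by
        intro a
        refine (Finset.sum_congr rfl fun b _ => h1 a b).trans ?_
        refine (sum_poly _ _ _ _ _).trans ?_
        rw [s0, s1, s3]
        simp only [zero_smul, zero_add, add_zero, pow_zero, one_smul]
      refine (Finset.sum_congr rfl fun a _ => h2 a).trans ?_
      rw [Finset.sum_add_distrib, ← Finset.smul_sum, ← Finset.sum_smul, s0, zero_smul, add_zero]
      have h4 := sum_poly (F := F) (-(q z • (W * T + T * W)) - m * T * m) (q z • (W * T * n - n * T * W))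
        ((2 * q y * q z) • (W * T * W)) (0 : Module.End F ((ι' → κ) → F)) (0 : Module.End F ((ι' → κ) → F))
      refine (congrArg (fun t => (∑ b : F, b ^ 2) • t) h4).trans ?_
      rw [s0, s1, s3]
      simp only [zero_smul, zero_add, add_zero, smul_zero, smul_smul, zero_mul]

end main

end Cfsg.Agent.H763.C7
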